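import Groth.Agent.FibVan.Main
import Groth.Agent.W7Hull.RelVanish
import Groth.Agent.CohQC.Restrict

/-!
Vanishing of higher direct images of quasi-coherent modules is stable under base change.
-/

set_option autoImplicit false
set_option backward.isDefEq.respectTransparency false
set_option linter.style.haveILetI false
set_option maxHeartbeats 1000000

universe u

open CategoryTheory CategoryTheory.Limits AlgebraicGeometry TopologicalSpace Opposite

noncomputable section

namespace Groth.Agent.FibVan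

theorem isZero_rpushAb_baseChange {X Y X' Y' : Scheme.{u}} (f : X ⟶ Y) [CompactSpace X]
    [QuasiSeparatedSpace X] [CompactSpace Y] [QuasiSeparatedSpace Y] (i : ℕ)
    (hvan : ∀ (M : X.Modules), Coh.IsQCoh M → IsZero ((Coh.RpushAb f i).obj (Coh.toAb M)))
    (g : Y' ⟶ Y) (f' : X' ⟶ Y') (g' : X' ⟶ X) (sq : IsPullback g' f' f g) (M' : X'.Modules)
    (hM : Coh.IsQCoh M') : IsZero ((Coh.RpushAb f' i).obj (Coh.toAb M')) := by
  haveI : QuasiCompact f := quasiCompact_of_compactSpace f
  haveI : QuasiSeparated f := inferInstance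
  haveI : QuasiCompact f' := MorphismProperty.of_isPullback (P := @QuasiCompact) sq inferInstance
  haveI : QuasiSeparated f' := MorphismProperty.of_isPullback (P := @QuasiSeparated) sq inferInstance
  refine W7Hull.isZero_rpushAb_of_cover f' M' hM i fun y => ?_
  obtain ⟨V, hV, hyV, -⟩ := exists_isAffineOpen_mem_and_subset (x := g y) (U := ⊤) trivial
  obtain ⟨V', hV', hyV', hle⟩ := exists_isAffineOpen_mem_and_subset (x := y) (U := g ⁻¹ᵁ V) hyV
  refine ⟨V', hV', hyV', ?_⟩
  let W := f ⁻¹ᵁ V
  let W' := f' ⁻¹ᵁ V'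
  have hWW : W' ≤ g' ⁻¹ᵁ W := fun x hx => by
    show f (g' x) ∈ V
    rw [← Scheme.Hom.comp_apply, sq.w, Scheme.Hom.comp_apply]
    exact hle hx
  let a := g.resLE V V' hle
  haveI : IsAffine V'.toScheme := hV'
  haveI : IsAffine V.toScheme := hV
  haveI : IsAffineHom a := inferInstance
  let π : W'.toScheme ⟶ W.toScheme := g'.resLE W W' hWW
  have hπ : π ≫ W.ι = W'.ι ≫ g' := Scheme.Hom.resLE_comp_ι _ _
  have ha : a ≫ V.ι = V'.ι ≫ g := Scheme.Hom.resLE_comp_ι _ _
  have hsq : IsPullback π (f' ∣_ V') (f ∣_ V) a := by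
    have h2 := (isPullback_morphismRestrict f' V').flip.paste_horiz sq
    rw [← hπ, ← ha] at h2
    refine IsPullback.of_right h2 ?_ (isPullback_morphismRestrict f V).flip
    rw [← cancel_mono V.ι, Category.assoc, morphismRestrict_ι, reassoc_of% hπ, sq.w, Category.assoc, ha,
      morphismRestrict_ι_assoc]
  haveI : IsAffineHom π := MorphismProperty.of_isPullback (P := @IsAffineHom) hsq.flip inferInstance
  haveI : (M'.restrict W'.ι).IsQuasicoherent := QC.isQCoh_restrict W'.ι hM
  let G := (Coh.push π).obj (M'.restrict W'.ι)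
  haveI hG : G.IsQuasicoherent := QC.isQCoh_pushforward π
  haveI : CompactSpace W.toScheme := QuasiCompact.compactSpace_of_compactSpace (f ∣_ V)
  haveI : QuasiCompact W.ι := quasiCompact_of_compactSpace W.ι
  let E := (Coh.push W.ι).obj G
  have hE : Coh.IsQCoh E := QC.isQCoh_pushforward W.ι
  obtain ⟨b⟩ := W7Hull.hu_equiv_sections f E hE hV i
  haveI : Subsingleton (CohSite.HU (Coh.toAb E) i W) :=
    haveI : Subsingleton ↑(((Coh.RpushAb f i).obj (Coh.toAb E)).obj.obj (op V)) :=
      AddCommGrpCat.subsingleton_of_isZero (Functor.map_isZero (sheafToPresheaf _ _) (hvan E hE) |>.obj (op V))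
    b.toEquiv.subsingleton
  obtain ⟨c⟩ := CohQC.hu_restrict E W i
  have h1 : Subsingleton (Coh.HH W.toScheme G i) :=
    CohQC.hh_subsingleton_of_iso (asIso ((Scheme.Modules.restrictAdjunction W.ι).counit.app G)) i
      c.toEquiv.symm.subsingleton
  have h2 := subsingleton_hh_push π (M'.restrict W'.ι) i h1
  obtain ⟨c'⟩ := CohQC.hu_restrict M' W' i
  exact c'.toEquiv.subsingleton

end Groth.Agent.FibVan
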