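import Groth.Agent.FibVan.Main
import Groth.Agent.S0403

/-!
Proper morphisms with fibres of bounded dimension: closed immersions into ones of finite presentation,
and models over Noetherian rings.
-/

set_option autoImplicit false
set_option backward.isDefEq.respectTransparency false
set_option linter.style.haveILetI false
set_option maxHeartbeats 1000000

universe u

open CategoryTheory CategoryTheory.Limits AlgebraicGeometry TopologicalSpace Opposite Topology

noncomputable section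

namespace Groth.Agent.FibVan

/-- A closed immersion does not increase the dimension of a fibre. -/
theorem dim_fiber_le_of_isClosedImmersion {X X' S : Scheme.{u}} (f : X ⟶ S) (f' : X' ⟶ S) (j : X ⟶ X')
    [IsClosedImmersion j] (w : j ≫ f' = f) (b : S) :
    topologicalKrullDim ↥(f.fiber b) ≤ topologicalKrullDim ↥(f'.fiber b) := by
  have hmaps : ∀ x ∈ f ⁻¹' {b}, j x ∈ f' ⁻¹' {b} := fun x hx => (congr($w x)).trans hx
  let r : f ⁻¹' {b} → f' ⁻¹' {b} := fun x => ⟨j x.1, hmaps x.1 x.2⟩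
  have hr : IsInducing r :=
    ((j.isClosedEmbedding.isEmbedding.comp IsEmbedding.subtypeVal).codRestrict _ _).isInducing
  rw [IsHomeomorph.topologicalKrullDim_eq _ (f'.fiberHomeo b).isHomeomorph,
    IsHomeomorph.topologicalKrullDim_eq _ (f.fiberHomeo b).isHomeomorph]
  exact hr.topologicalKrullDim_le

section

variable {X Ω S : Scheme.{u}} (f : X ⟶ S) (F : Ω ⟶ S) (g : X ⟶ Ω) [IsClosedImmersion g] (w : g ≫ F = f)
  [LocallyOfFinitePresentation F] [QuasiCompact F] [QuasiSeparated F] [CompactSpace Ω] [QuasiSeparatedSpace Ω]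
  [CompactSpace S] [QuasiSeparatedSpace S]

include w in
theorem exists_fiber_dim_le (L₁ : LimClosed.FTBelow g.ker) (b : S) :
    ∃ L : LimClosed.FTBelow g.ker, L₁ ≤ L ∧
      topologicalKrullDim ↥(((AbsApprox.closedDiagram F g).obj (op L)).hom.fiber b) ≤
        topologicalKrullDim ↥(f.fiber b) := by
  haveI : IsNoetherian (F.fiber b) := by
    haveI : LocallyOfFiniteType (F.fiberToSpecResidueField b) := MorphismProperty.pullback_snd _ _ inferInstance
    haveI : IsLocallyNoetherian (F.fiber b) := LocallyOfFiniteType.isLocallyNoetherian (F.fiberToSpecResidueField b)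
    haveI : CompactSpace (F.fiber b) := QuasiCompact.compactSpace_of_compactSpace (F.fiberToSpecResidueField b)
    exact {}
  haveI : NoetherianSpace ↥(F.fiber b) := inferInstance
  let C : {L : LimClosed.FTBelow g.ker // L₁ ≤ L} → Closeds ↥(F.fiber b) := fun L =>
    ⟨F.fiberι b ⁻¹' (L.1.1.support : Set Ω), L.1.1.support.isClosed.preimage (F.fiberι b).continuous⟩
  obtain ⟨-, ⟨L, rfl⟩, hmin⟩ := wellFounded_lt.has_min (Set.range C) ⟨_, ⟨⟨L₁, le_rfl⟩, rfl⟩⟩
  have hsupp : ∀ y : Ω, F y = b → y ∈ (L.1.1.support : Set Ω) → y ∈ Set.range g := by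
    intro y hy hyL
    rw [← AbsApprox.range_ι_inter g]
    refine Set.mem_iInter.2 fun K => ?_
    obtain ⟨M, hM, hM'⟩ := exists_ge_ge K L.1
    have hsub : C ⟨M, L.2.trans hM'⟩ ≤ C L :=
      fun z hz => Scheme.IdealSheafData.support_antitone (show L.1.1 ≤ M.1 from hM') hz
    have heq : C ⟨M, L.2.trans hM'⟩ = C L :=
      hsub.eq_of_not_lt (hmin _ ⟨_, rfl⟩)
    obtain ⟨z, rfl⟩ : y ∈ Set.range (F.fiberι b) := by rw [Scheme.Hom.range_fiberι]; exact hy
    refine Scheme.IdealSheafData.support_antitone hM ?_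
    exact (SetLike.ext_iff.mp heq z).mpr hyL
  let ι := ((LimClosed.diagram g.ker).obj (op L.1)).hom
  let j := ((AbsApprox.closedCone f F g w).π.app (op L.1)).left
  haveI hj : IsClosedImmersion j := AbsApprox.isClosedImmersion_closedCone f F g w (op L.1)
  let F' := ((AbsApprox.closedDiagram F g).obj (op L.1)).hom
  have hjι : j ≫ ι = g := Over.w ((LimClosed.cone g.ker g rfl).π.app (op L.1))
  have hw : j ≫ F' = f := Over.w ((AbsApprox.closedCone f F g w).π.app (op L.1))
  refine ⟨L.1, L.2, ?_⟩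
  have hmaps : ∀ x ∈ f ⁻¹' {b}, j x ∈ F' ⁻¹' {b} := fun x hx => (congr($hw x)).trans hx
  let r : f ⁻¹' {b} → F' ⁻¹' {b} := fun x => ⟨j x.1, hmaps x.1 x.2⟩
  have hr : IsHomeomorph r := by
    refine isHomeomorph_iff_isEmbedding_surjective.mpr ⟨?_, ?_⟩
    · exact (j.isClosedEmbedding.isEmbedding.comp IsEmbedding.subtypeVal).codRestrict _ _
    · rintro ⟨z, hz⟩
      have hιz : ι z ∈ (L.1.1.support : Set Ω) := (Scheme.IdealSheafData.range_subschemeι L.1.1).le ⟨z, rfl⟩
      obtain ⟨x, hx⟩ := hsupp (ι z) hz hιz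
      have hjx : j x = z := ι.isClosedEmbedding.injective ((congr($hjι x)).trans hx)
      refine ⟨⟨x, ?_⟩, Subtype.ext hjx⟩
      show f x = b
      exact ((congr($hw x)).symm).trans ((congrArg F' hjx).trans hz)
  rw [IsHomeomorph.topologicalKrullDim_eq _ (F'.fiberHomeo b).isHomeomorph,
    IsHomeomorph.topologicalKrullDim_eq _ (f.fiberHomeo b).isHomeomorph]
  exact (IsHomeomorph.topologicalKrullDim_eq _ hr).symm.le

end

/-- A proper scheme over an affine base with fibres of dimension `≤ d` is a closed subscheme of a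
proper scheme of finite presentation with the same bound. -/
theorem exists_closed_proper_all {B : Type u} [CommRing B] {X : Scheme.{u}}
    (f : X ⟶ Spec (CommRingCat.of B)) [IsProper f] (d : WithBot ℕ∞)
    (hd : ∀ b, topologicalKrullDim ↥(f.fiber b) ≤ d) :
    ∃ (X' : Scheme.{u}) (f' : X' ⟶ Spec (CommRingCat.of B)) (j : X ⟶ X'), IsClosedImmersion j ∧ IsProper f' ∧
      LocallyOfFinitePresentation f' ∧ j ≫ f' = f ∧ ∀ b, topologicalKrullDim ↥(f'.fiber b) ≤ d := by
  haveI : CompactSpace X := QuasiCompact.compactSpace_of_compactSpace f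
  haveI : QuasiSeparatedSpace X := quasiSeparatedSpace_of_quasiSeparated f
  obtain ⟨T, t, Ω, g, ht, htc, hts, hΩ, hg, hgt⟩ := AbsApprox.exists_closedImmersion_opens f
  haveI : QuasiSeparatedSpace T := quasiSeparatedSpace_of_quasiSeparated t
  haveI : CompactSpace Ω.toScheme := isCompact_iff_compactSpace.mp hΩ
  haveI : QuasiSeparatedSpace Ω.toScheme := Ω.ι.isOpenEmbedding.quasiSeparatedSpace
  let F := Ω.ι ≫ t
  haveI : QuasiCompact F := quasiCompact_of_compactSpace _
  obtain ⟨L₁, hL₁⟩ := AbsApprox.exists_isProper_closedDiagram f F g hgt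
  let G : {L : LimClosed.FTBelow g.ker // L₁.unop ≤ L} → Set ↥(Spec (CommRingCat.of B)) := fun L =>
    {b | topologicalKrullDim ↥(((AbsApprox.closedDiagram F g).obj (op L.1)).hom.fiber b) ≤ d}
  have hopen : ∀ L, IsOpen (G L) := fun L =>
    haveI : IsProper ((AbsApprox.closedDiagram F g).obj (op L.1)).hom := hL₁ (op L.1) (homOfLE L.2).op
    S0403.result _ d
  haveI : Nonempty {L : LimClosed.FTBelow g.ker // L₁.unop ≤ L} := ⟨⟨L₁.unop, le_rfl⟩⟩
  have hdir : Directed (· ⊆ ·) G := fun L L' => by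
    obtain ⟨M, hM, hM'⟩ := exists_ge_ge L.1 L'.1
    refine ⟨⟨M, L.2.trans hM⟩, fun b (hb : _ ≤ d) => show _ ≤ d from le_trans ?_ hb, fun b (hb : _ ≤ d) => show _ ≤ d from le_trans ?_ hb⟩
    · haveI : IsClosedImmersion ((AbsApprox.closedDiagram F g).map (homOfLE hM).op).left :=
        AbsApprox.isClosedImmersion_closedDiagram_map F g _
      exact dim_fiber_le_of_isClosedImmersion _ _ ((AbsApprox.closedDiagram F g).map (homOfLE hM).op).left
        (Over.w _) b
    · haveI : IsClosedImmersion ((AbsApprox.closedDiagram F g).map (homOfLE hM').op).left :=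
        AbsApprox.isClosedImmersion_closedDiagram_map F g _
      exact dim_fiber_le_of_isClosedImmersion _ _ ((AbsApprox.closedDiagram F g).map (homOfLE hM').op).left
        (Over.w _) b
  obtain ⟨L, hL⟩ := isCompact_univ.elim_directed_cover G hopen (fun b _ => by
    obtain ⟨L, hL, hle⟩ := exists_fiber_dim_le f F g hgt L₁.unop b
    exact Set.mem_iUnion.2 ⟨⟨L, hL⟩, hle.trans (hd b)⟩) hdir
  exact ⟨_, _, _, AbsApprox.isClosedImmersion_closedCone f F g hgt (op L.1), hL₁ (op L.1) (homOfLE L.2).op,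
    AbsApprox.lfp_closedDiagram F g _, Over.w ((AbsApprox.closedCone f F g hgt).π.app (op L.1)),
    fun b => hL (Set.mem_univ b)⟩

/-- A proper morphism of finite presentation with fibres of dimension `≤ d` comes from one over a
Noetherian ring with the same bound. -/
theorem exists_model_all (B : Type u) [CommRing B] {X : Scheme.{u}} (f : X ⟶ Spec (CommRingCat.of B))
    [IsProper f] [LocallyOfFinitePresentation f] (d : WithBot ℕ∞)
    (hd : ∀ b, topologicalKrullDim ↥(f.fiber b) ≤ d) :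
    ∃ (A : Type u) (_ : CommRing A) (_ : IsNoetherianRing A) (φ : A →+* B) (Y : Scheme.{u})
      (h : Y ⟶ Spec (CommRingCat.of A)) (π : X ⟶ Y),
      IsProper h ∧ IsAffineHom π ∧ IsPullback π f h (Spec.map (CommRingCat.ofHom φ)) ∧
      ∀ a, topologicalKrullDim ↥(h.fiber a) ≤ d := by
  classical
  obtain ⟨A₀, hA₀, X₀, f₀, g, hf₀, hsq⟩ := exists_model_proper B f
  haveI := hf₀
  obtain ⟨I, hI⟩ := (PrimeSpectrum.isClosed_iff_zeroLocus_ideal _).1 (S0403.result f₀ d).isClosed_compl
  have hIB : I.map (algebraMap ↥A₀ B) = ⊤ := by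
    by_contra hne
    obtain ⟨P, hP, hIP⟩ := Ideal.exists_le_maximal _ hne
    let b : ↥(Spec (CommRingCat.of B)) := ⟨P, hP.isPrime⟩
    have h1 : Spec.map (CommRingCat.ofHom (algebraMap (↥A₀) B)) b ∈ PrimeSpectrum.zeroLocus (I : Set ↥A₀) :=
      Ideal.map_le_iff_le_comap.mp hIP
    rw [← hI] at h1
    exact h1 ((DimField.dim_fiber_eq_of_isPullback hsq b).symm.le.trans (hd b))
  have h1 : (1 : B) ∈ Submodule.span B (algebraMap ↥A₀ B '' (I : Set ↥A₀)) := by
    change (1 : B) ∈ I.map (algebraMap ↥A₀ B)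
    rw [hIB]
    exact Submodule.mem_top
  obtain ⟨n, c, z, hc⟩ := Submodule.mem_span_set'.mp h1
  choose x hxI hx using fun k => (z k).2
  let A₁ : Subalgebra ℤ B := A₀ ⊔ Algebra.adjoin ℤ (↑(Finset.univ.image c) : Set B)
  have hA₁ : A₁.FG := hA₀.sup (Subalgebra.fg_adjoin_finset _)
  haveI : IsNoetherianRing ↥A₁ := isNoetherianRing_of_fg hA₁
  let i₀ : ↥A₀ →+* ↥A₁ := (Subalgebra.inclusion (le_sup_left : A₀ ≤ A₁)).toRingHom
  have hi₀ : (algebraMap ↥A₁ B).comp i₀ = algebraMap ↥A₀ B := rfl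
  have hIA : I.map i₀ = ⊤ := by
    rw [Ideal.eq_top_iff_one]
    have hsum : (1 : ↥A₁) = ∑ k, (⟨c k, (le_sup_right : _ ≤ A₁)
        (Algebra.subset_adjoin (Finset.mem_coe.2 (Finset.mem_image.2 ⟨k, Finset.mem_univ _, rfl⟩)))⟩ : ↥A₁) * i₀ (x k) := by
      refine Subtype.ext ?_
      rw [AddSubmonoidClass.coe_finsetSum]
      refine hc.symm.trans (Finset.sum_congr rfl fun k _ => ?_)
      rw [smul_eq_mul, ← hx k]
      rfl
    rw [hsum]
    exact Ideal.sum_mem _ fun k _ => Ideal.mul_mem_left _ _ (Ideal.mem_map_of_mem _ (hxI k))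
  have hcomp : Spec.map (CommRingCat.ofHom (algebraMap ↥A₁ B)) ≫ Spec.map (CommRingCat.ofHom i₀) =
      Spec.map (CommRingCat.ofHom (algebraMap (↥A₀) B)) := by
    rw [← Spec.map_comp, ← CommRingCat.ofHom_comp, hi₀]
  let h := pullback.snd f₀ (Spec.map (CommRingCat.ofHom i₀))
  let π : X ⟶ pullback f₀ (Spec.map (CommRingCat.ofHom i₀)) :=
    pullback.lift g (f ≫ Spec.map (CommRingCat.ofHom (algebraMap ↥A₁ B))) (by rw [hsq.w, Category.assoc, hcomp])
  have hπ : IsPullback π f h (Spec.map (CommRingCat.ofHom (algebraMap ↥A₁ B))) := by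
    refine IsPullback.of_right ?_ (pullback.lift_snd _ _ _) (IsPullback.of_hasPullback _ _)
    rw [pullback.lift_fst, hcomp]
    exact hsq
  refine ⟨↥A₁, inferInstance, inferInstance, algebraMap ↥A₁ B, _, h, π,
    MorphismProperty.pullback_snd (P := @IsProper) _ _ hf₀,
    MorphismProperty.of_isPullback (P := @IsAffineHom) hπ.flip inferInstance, hπ, fun a => ?_⟩
  rw [DimField.dim_fiber_eq_of_isPullback (IsPullback.of_hasPullback f₀ (Spec.map (CommRingCat.ofHom i₀))) a]
  by_contra hlt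
  have h2 : Spec.map (CommRingCat.ofHom i₀) a ∈ PrimeSpectrum.zeroLocus (I : Set ↥A₀) := hI ▸ hlt
  exact a.isPrime.ne_top (top_le_iff.mp (hIA ▸ Ideal.map_le_iff_le_comap.mpr h2))

end Groth.Agent.FibVan
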