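import Groth.Agent.FibVan.Stalk
import Groth.Agent.FibVan.Global
import Groth.Agent.W7Cech.RpushSec
import Groth.Agent.W7Hull.RelVanish
import Groth.Agent.CohFinite.PushLinear
import Groth.Agent.W7Cech.TensorSec
import Groth.Agent.W7Cech.BCSec
import Groth.Agent.Devissage.Power

/-!
Cohomology in the degree of the fibre dimension is finite for modules of finite type.
-/

set_option autoImplicit false
set_option backward.isDefEq.respectTransparency false
set_option linter.style.haveILetI false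
set_option maxHeartbeats 1000000

universe u

open CategoryTheory CategoryTheory.Limits AlgebraicGeometry TopologicalSpace Opposite
open Groth.Agent.QC (res resO)
open scoped TensorProduct

noncomputable section

namespace Groth.Agent.FibVan

/-- Over an affine base, cohomology vanishes above a bound for the fibre dimensions. -/
theorem subsingleton_hh_affine {A : Type u} [CommRing A] {X : Scheme.{u}} (f : X ⟶ Spec (CommRingCat.of A))
    [IsProper f] (d : ℕ) (hd : ∀ a, topologicalKrullDim ↥(f.fiber a) ≤ d) (M : X.Modules) (hM : Coh.IsQCoh M)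
    (p : ℕ) (hp : d < p) : Subsingleton (Coh.HH X M p) := by
  haveI := hM
  obtain ⟨b⟩ := W7Hull.hu_equiv_sections f M hM (isAffineOpen_top (Spec (CommRingCat.of A))) p
  haveI : Subsingleton ↑(((Coh.RpushAb f p).obj (Coh.toAb M)).obj.obj (op (⊤ : (Spec (CommRingCat.of A)).Opens))) :=
    AddCommGrpCat.subsingleton_of_isZero
      ((Functor.map_isZero (sheafToPresheaf _ _) (isZero_rpushAb f d hd M p hp)).obj _)
  haveI : Subsingleton (CohSite.HU (Coh.toAb M) p (⊤ : X.Opens)) :=
    (b.toEquiv.subsingleton : Subsingleton (CohSite.HU (Coh.toAb M) p (f ⁻¹ᵁ ⊤)))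
  exact (SiteCoh.huTerminalEquiv (Opens.grothendieckTopology X) isTerminalTop (Coh.toAb M) p).toEquiv.subsingleton

/-- Cohomology classes come from finite type submodules. -/
theorem exists_rep_hh {X : Scheme.{u}} [CompactSpace X] [QuasiSeparatedSpace X] {F : X.Modules}
    [F.IsQuasicoherent] (q : ℕ) (z : Coh.HH X F q) :
    ∃ (S : W7FTH.FGSub F) (w : Coh.HH X S.1.toModules q),
      Sheaf.H.map ((SheafOfModules.toSheaf X.ringCatSheaf).map S.1.ι) q w = z := by
  let G := W7FTH.system F ⋙ SheafOfModules.toSheaf X.ringCatSheaf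
  let E := (Sheaf.cohomologyPresheafFunctor (Opens.grothendieckTopology X) q).flip.obj (op (⊤ : X.Opens))
  haveI : PrespectralSpace X.toTopCat := inferInstanceAs (PrespectralSpace ↥X)
  haveI : QuasiSeparatedSpace X.toTopCat := inferInstanceAs (QuasiSeparatedSpace ↥X)
  haveI : CompactSpace X.toTopCat := inferInstanceAs (CompactSpace ↥X)
  haveI : PreservesColimitsOfShape (W7FTH.FGSub F) E :=
    TopQC.preservesColimitsOfShape_HU (X := X.toTopCat) (ι := W7FTH.FGSub F) ⊤ isCompact_univ q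
  have hc := isColimitOfPreserves E (W7FTH.isColimitCocone F)
  let T (N : X.Modules) := SiteCoh.huTerminalEquiv (Opens.grothendieckTopology X) isTerminalTop (Coh.toAb N) q
  obtain ⟨S, w, hw⟩ := Concrete.isColimit_exists_rep (G ⋙ E) hc (T F z)
  refine ⟨S, (T S.1.toModules).symm w, (T F).injective ?_⟩
  refine (ProjCech.huTerminalEquiv_natural (Opens.grothendieckTopology X) isTerminalTop _ q _).trans ?_
  erw [AddEquiv.apply_symm_apply]
  exact hw

/-- On affine opens, functions upstairs are combinations of functions downstairs with coefficients in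
the new base ring. -/
theorem secRing_span (A B : Type u) [CommRing A] [CommRing B] [Algebra A B] {X X' : Scheme.{u}}
    [X.Over (Spec (CommRingCat.of A))] [X'.Over (Spec (CommRingCat.of B))] (g : X' ⟶ X)
    (sq : IsPullback g (X' ↘ Spec (CommRingCat.of B)) (X ↘ Spec (CommRingCat.of A))
      (Spec.map (CommRingCat.ofHom (algebraMap A B)))) {V : X.Opens} (hV : IsAffineOpen V)
    (P : Γ(X', g ⁻¹ᵁ V) → Prop) (h0 : P 0) (hadd : ∀ x y, P x → P y → P (x + y))
    (hmul : ∀ (b : B) (r : Γ(X, V)), P (W7Cech.secRing B (g ⁻¹ᵁ V) b * g.app V r)) :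
    ∀ c, P c := by
  haveI := W7Cech.isAffineHom_bc A B g sq
  let S := Spec (CommRingCat.of A)
  let S' := Spec (CommRingCat.of B)
  let π := X ↘ Spec (CommRingCat.of A)
  let π' := X' ↘ Spec (CommRingCat.of B)
  let h := Spec.map (CommRingCat.ofHom (algebraMap A B))
  have hV' : IsAffineOpen (g ⁻¹ᵁ V) := hV.preimage g
  have eV : V ≤ π ⁻¹ᵁ ⊤ := le_top
  have eO : (⊤ : S'.Opens) ≤ h ⁻¹ᵁ ⊤ := le_top
  have hUW : g ⁻¹ᵁ V = g ⁻¹ᵁ V ⊓ π' ⁻¹ᵁ ⊤ := le_antisymm (le_inf le_rfl le_top) inf_le_left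
  have hP := (isIso_pushoutSection_iff sq eO eV hUW).1
    (isIso_pushoutSection_of_isAffineOpen sq eO eV hUW (isAffineOpen_top S) (isAffineOpen_top S') hV)
  letI : Algebra A ↑Γ(X, V) := (W7Cech.secRing A V).toAlgebra
  letI : Algebra B ↑Γ(X', g ⁻¹ᵁ V) := (W7Cech.secRing B (g ⁻¹ᵁ V)).toAlgebra
  letI : Algebra ↑Γ(X, V) ↑Γ(X', g ⁻¹ᵁ V) := (g.app V).hom.toAlgebra
  letI : Algebra A ↑Γ(X', g ⁻¹ᵁ V) := ((algebraMap B ↑Γ(X', g ⁻¹ᵁ V)).comp (algebraMap A B)).toAlgebra
  haveI : IsScalarTower A B ↑Γ(X', g ⁻¹ᵁ V) := IsScalarTower.of_algebraMap_eq fun _ => rfl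
  haveI : IsScalarTower A ↑Γ(X, V) ↑Γ(X', g ⁻¹ᵁ V) :=
    IsScalarTower.of_algebraMap_eq fun a => (W7Cech.secRing_comm A B g sq V a).symm
  haveI hpush : Algebra.IsPushout A B ↑Γ(X, V) ↑Γ(X', g ⁻¹ᵁ V) := by
    refine CommRingCat.isPushout_iff_isPushout.1 ?_
    refine IsPushout.of_iso hP.flip (Scheme.ΓSpecIso (CommRingCat.of A))
      (Scheme.ΓSpecIso (CommRingCat.of B)) (Iso.refl _) (Iso.refl _) ?_ ?_ ?_ ?_
    · change h.appLE ⊤ ⊤ eO ≫ _ = _
      rw [show h.appLE ⊤ ⊤ eO = h.appTop from h.app_eq_appLE.symm]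
      exact Scheme.ΓSpecIso_naturality (CommRingCat.ofHom (algebraMap A B))
    · rw [← cancel_epi (Scheme.ΓSpecIso (CommRingCat.of A)).inv]
      ext a
      simp only [Iso.refl_hom, Category.comp_id, Iso.inv_hom_id_assoc]
      rfl
    · rw [← cancel_epi (Scheme.ΓSpecIso (CommRingCat.of B)).inv]
      ext a
      simp only [Iso.refl_hom, Category.comp_id, Iso.inv_hom_id_assoc]
      rfl
    · simp only [Iso.refl_hom, Category.comp_id, Category.id_comp]
      exact (g.app_eq_appLE).symm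
  intro c
  induction c using (Algebra.IsPushout.out (R := A) (S := B) (R' := ↑Γ(X, V)) (S' := ↑Γ(X', g ⁻¹ᵁ V))).inductionOn
    generalizing P with
  | zero => exact h0
  | tmul m =>
    have h := hmul 1 m
    rw [map_one, one_mul] at h
    exact h
  | smul b n ih =>
    refine ih (fun x => P (b • x)) ?_ ?_ ?_
    · rw [smul_zero]; exact h0
    · intro x y hx hy
      rw [smul_add]
      exact hadd _ _ hx hy
    · intro b' r
      rw [Algebra.smul_def, ← mul_assoc]
      show P (W7Cech.secRing B (g ⁻¹ᵁ V) b * W7Cech.secRing B (g ⁻¹ᵁ V) b' * _)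
      rw [← map_mul]
      exact hmul _ _
  | add x y hx hy => exact hadd _ _ (hx P h0 hadd hmul) (hy P h0 hadd hmul)

/-- Sums of morphisms act by sums on cohomology. -/
theorem hhMap_sum (A : Type u) [CommRing A] {X : Scheme.{u}} [X.Over (Spec (CommRingCat.of A))]
    {κ : Type} (s : Finset κ) {M N : X.Modules} (φ : κ → (M ⟶ N)) (q : ℕ) (x : Coh.HH X M q) :
    CohFinite.hhMap A (∑ k ∈ s, φ k) q x = ∑ k ∈ s, CohFinite.hhMap A (φ k) q x := by
  let ev : (M ⟶ N) →+ Coh.HH X N q := AddMonoidHom.mk' (fun f => CohFinite.hhMap A f q x) fun a b =>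
    (congr_arg (fun g => Sheaf.H.map g q x) ((SheafOfModules.toSheaf X.ringCatSheaf).map_add (f := a) (g := b))).trans
      (Sheaf.H.map_add_apply _ _ _)
  exact map_sum ev φ s

/-- Finitely many local sections lie in a finite type submodule. -/
theorem exists_fgSub_mem {X : Scheme.{u}} [CompactSpace X] [QuasiSeparatedSpace X] {F : X.Modules}
    [F.IsQuasicoherent] {κ : Type*} [Finite κ] (D : κ → X.Opens) (hD : ∀ i, IsAffineOpen (D i))
    (G : ∀ i, Finset Γ(F, D i)) : ∃ S : W7FTH.FGSub F, ∀ i, ∀ g ∈ G i, g ∈ S.1.obj (D i) := by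
  classical
  haveI : Fintype κ := Fintype.ofFinite κ
  suffices key : ∀ s : Finset κ, ∃ S : W7FTH.FGSub F, ∀ i ∈ s, ∀ g ∈ G i, g ∈ S.1.obj (D i) by
    obtain ⟨S, hS⟩ := key Finset.univ
    exact ⟨S, fun i => hS i (Finset.mem_univ i)⟩
  intro s
  induction s using Finset.induction_on with
  | empty => exact ⟨Classical.arbitrary _, by simp⟩
  | insert j s _ ih =>
    obtain ⟨S, hS⟩ := ih
    have hgen : QC.LocFinGen (QC.genSub (G j : Set Γ(F, D j))) (D j) := fun y hy =>
      ⟨D j, hD j, hy, le_rfl, G j, fun u hu => QC.mem_genSub_of_mem hu, fun _ _ => le_rfl⟩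
    obtain ⟨S', hS', hS'D⟩ := QC.exists_extend_qcqs _ hgen (hD j).isCompact
    refine ⟨⟨W7FTH.supSub S.1 S', W7FTH.locFinGen_supSub S.2 hS'⟩, fun i hi g hg => ?_⟩
    rcases Finset.mem_insert.mp hi with rfl | hi
    · refine W7FTH.le_supSub_right S.1 S' _ ?_
      rw [hS'D _ le_rfl]
      exact QC.mem_genSub_of_mem hg
    · exact W7FTH.le_supSub_left S.1 S' _ (hS i hi g hg)

set_option maxHeartbeats 4000000 in
/-- The finiteness in the model situation. -/
theorem finite_hh_top_model (A B : Type u) [CommRing A] [IsNoetherianRing A] [CommRing B] [Algebra A B]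
    {X Y : Scheme.{u}} [Y.Over (Spec (CommRingCat.of A))] [X.Over (Spec (CommRingCat.of B))]
    [IsProper (Y ↘ Spec (CommRingCat.of A))] (d : ℕ)
    (hY : ∀ a, topologicalKrullDim ↥((Y ↘ Spec (CommRingCat.of A)).fiber a) ≤ d)
    (π : X ⟶ Y) [IsAffineHom π]
    (sq : IsPullback π (X ↘ Spec (CommRingCat.of B)) (Y ↘ Spec (CommRingCat.of A))
      (Spec.map (CommRingCat.ofHom (algebraMap A B))))
    (M : X.Modules) (hM : Coh.IsCoh M) : Module.Finite B (Coh.HH X M d) := by
  classical
  haveI : M.IsQuasicoherent := hM.1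
  haveI : CompactSpace Y := QuasiCompact.compactSpace_of_compactSpace (Y ↘ Spec (CommRingCat.of A))
  haveI : QuasiSeparatedSpace Y := quasiSeparatedSpace_of_quasiSeparated (Y ↘ Spec (CommRingCat.of A))
  let F := (Coh.push π).obj M
  haveI hF : F.IsQuasicoherent := QC.isQCoh_pushforward π
  let μ : B → (F ⟶ F) := fun b => (Coh.push π).map (Formal.smulMod B M b)
  obtain ⟨a, ha⟩ := CohFinite.h_push_natural π.base d
  let e := a (Coh.toAb M) (CohQC.directAcyclic_of_isAffineHom π M)
  have hμ : ∀ (b : B) (x : Coh.HH X M d), e (b • x) = CohFinite.hhMap A (μ b) d (e x) := fun b x =>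
    ha _ (CohQC.directAcyclic_of_isAffineHom π M) (Coh.smulAb M (Coh.toGlobal (X ↘ Spec (CommRingCat.of B)) b)) x
  have hA : ∀ (r : A) (x : Coh.HH X M d), e (algebraMap A B r • x) = r • (show Coh.HH Y F d from e x) := fun r x => by
    have hg : π.appTop (Coh.toGlobal (Y ↘ Spec (CommRingCat.of A)) r) =
        Coh.toGlobal (X ↘ Spec (CommRingCat.of B)) (algebraMap A B r) := by
      have h1 := congr($(congrArg Scheme.Hom.appTop sq.w).hom ((Scheme.ΓSpecIso (CommRingCat.of A)).inv r))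
      simp only [Scheme.Hom.comp_appTop] at h1
      refine h1.trans ?_
      exact congrArg (X ↘ Spec (CommRingCat.of B)).appTop
        (congr($(Scheme.ΓSpecIso_inv_naturality (CommRingCat.ofHom (algebraMap A B))).hom r)).symm
    rw [hμ]
    show Sheaf.H.map ((CohTop.push π.base).map (Coh.smulAb M (Coh.toGlobal (X ↘ Spec (CommRingCat.of B)) (algebraMap A B r)))) d _ = _
    rw [← hg, CohFinite.smulAb_push]
    rfl
  -- generators over a finite affine cover
  obtain ⟨κ, hκ, D, hD, -, hcov⟩ := QC.exists_finite_affine_cover (X := Y) (W := ⊤) (by simpa using isCompact_univ)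
  have hgen : ∀ i, ∃ G : Finset Γ(F, D i), Submodule.span Γ(X, π ⁻¹ᵁ D i)
      (show Set Γ(M, π ⁻¹ᵁ D i) from (G : Set Γ(F, D i))) = ⊤ := fun i =>
    (QC.finite_sections ((hD i).preimage π) hM.2).fg_top
  choose G hG using hgen
  obtain ⟨S₀, hS₀⟩ := exists_fgSub_mem D hD G
  let ι := S₀.1.ι
  have hspan : ∀ i, Submodule.span Γ(Y, D i) (⋃ b : B, (μ b).app (D i) '' (G i : Set Γ(F, D i))) = ⊤ := by
    intro i
    refine eq_top_iff.mpr fun m _ => ?_
    have hm : (show Γ(M, π ⁻¹ᵁ D i) from m) ∈ Submodule.span Γ(X, π ⁻¹ᵁ D i)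
        (show Set Γ(M, π ⁻¹ᵁ D i) from (G i : Set Γ(F, D i))) := by rw [hG i]; exact Submodule.mem_top
    let P := Submodule.span Γ(Y, D i) (⋃ b : B, (μ b).app (D i) '' (G i : Set Γ(F, D i)))
    suffices key : ∀ c : Γ(X, π ⁻¹ᵁ D i), ∀ g ∈ G i, (show Γ(F, D i) from c • (show Γ(M, π ⁻¹ᵁ D i) from g)) ∈ P by
      obtain ⟨c, -, hc⟩ := Submodule.mem_span_finset.mp hm
      show (show Γ(F, D i) from (show Γ(M, π ⁻¹ᵁ D i) from m)) ∈ P
      rw [← hc]
      exact P.sum_mem fun g hg => key _ g hg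
    intro c g hg
    refine secRing_span A B π sq (hD i)
      (fun c => (show Γ(F, D i) from c • (show Γ(M, π ⁻¹ᵁ D i) from g)) ∈ P) ?_ ?_ ?_ c
    · rw [zero_smul]; exact P.zero_mem
    · intro x y hx hy; rw [add_smul]; exact P.add_mem hx hy
    · intro b r
      rw [mul_comm, mul_smul]
      exact P.smul_mem r (Submodule.subset_span (Set.mem_iUnion.2 ⟨b, g, hg, rfl⟩))
  -- the finitely generated module
  haveI := CohFinite.finite_proper A Y S₀.1.toModules (QC.Sub.isCoh_toModules S₀.2) d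
  obtain ⟨gs, hgs⟩ := (Module.Finite.fg_top : (⊤ : Submodule A (Coh.HH Y S₀.1.toModules d)).FG)
  let Q : Submodule B (Coh.HH X M d) :=
    Submodule.span B ((fun w => e.symm (CohFinite.hhMap A ι d w)) '' (gs : Set (Coh.HH Y S₀.1.toModules d)))
  have hQ : ∀ w, e.symm (CohFinite.hhMap A ι d w) ∈ Q := fun w => by
    have hw : w ∈ Submodule.span A (gs : Set (Coh.HH Y S₀.1.toModules d)) := hgs ▸ Submodule.mem_top
    induction hw using Submodule.span_induction with
    | mem w hw => exact Submodule.subset_span ⟨w, hw, rfl⟩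
    | zero => rw [map_zero]; erw [map_zero]; exact Q.zero_mem
    | add x y _ _ hx hy => rw [map_add]; erw [map_add]; exact Q.add_mem hx hy
    | smul r x _ hx =>
      have : e.symm (CohFinite.hhMap A ι d (r • x)) = algebraMap A B r • e.symm (CohFinite.hhMap A ι d x) := by
        apply e.injective
        rw [hA, map_smul]
        erw [AddEquiv.apply_symm_apply, AddEquiv.apply_symm_apply]
      rw [this]
      exact Q.smul_mem _ hx
  refine ⟨⟨(gs.image fun w => e.symm (CohFinite.hhMap A ι d w)), eq_top_iff.mpr fun x _ => ?_⟩⟩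
  rw [Finset.coe_image]
  show x ∈ Q
  obtain ⟨S', w, hw⟩ := exists_rep_hh (F := F) d (e x)
  -- finitely many coefficients suffice for S'
  have hfin : ∀ i, ∃ T : Finset B, ∀ s : Γ(S'.1.toModules, D i), S'.1.ι.app (D i) s ∈
      Submodule.span Γ(Y, D i) (⋃ b ∈ T, (μ b).app (D i) '' (G i : Set Γ(F, D i))) := by
    intro i
    haveI : S'.1.toModules.IsQuasicoherent := (QC.Sub.isCoh_toModules S'.2).1
    obtain ⟨t, ht⟩ := (QC.finite_sections (hD i) (M := S'.1.toModules) (QC.Sub.isCoh_toModules S'.2).2).fg_top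
    have hl : ∀ s : Γ(S'.1.toModules, D i), ∃ T : Finset B, S'.1.ι.app (D i) s ∈
        Submodule.span Γ(Y, D i) (⋃ b ∈ T, (μ b).app (D i) '' (G i : Set Γ(F, D i))) := fun s => by
      obtain ⟨U, hU, hsU⟩ := Submodule.mem_span_finite_of_mem_span
        ((hspan i).symm ▸ (Submodule.mem_top : S'.1.ι.app (D i) s ∈ (⊤ : Submodule Γ(Y, D i) Γ(F, D i))))
      choose bb hbb using fun v : {v // v ∈ U} => Set.mem_iUnion.1 (hU v.2)
      exact ⟨Finset.univ.image bb, Submodule.span_mono (fun v hv => Set.mem_iUnion₂.2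
        ⟨bb ⟨v, hv⟩, Finset.mem_image_of_mem _ (Finset.mem_univ _), hbb ⟨v, hv⟩⟩) hsU⟩
    choose T hT using hl
    refine ⟨t.biUnion T, fun s => ?_⟩
    have hs : s ∈ Submodule.span Γ(Y, D i) (t : Set Γ(S'.1.toModules, D i)) := ht ▸ Submodule.mem_top
    induction hs using Submodule.span_induction with
    | mem s hs =>
      exact Submodule.span_mono (Set.biUnion_subset_biUnion_left fun b hb => Finset.mem_biUnion.2 ⟨s, hs, hb⟩) (hT s)
    | zero => rw [map_zero]; exact Submodule.zero_mem _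
    | add x y _ _ hx hy => rw [map_add]; exact Submodule.add_mem _ hx hy
    | smul r x _ hx => rw [Scheme.Modules.Hom.app_smul]; exact Submodule.smul_mem _ _ hx
  choose T hT using hfin
  haveI : Fintype κ := Fintype.ofFinite κ
  let T₀ := Finset.univ.biUnion T
  let n := T₀.card
  let bs : Fin n → B := fun k => (T₀.equivFin.symm k).1
  haveI : HasFiniteBiproducts Y.Modules := HasFiniteBiproducts.of_hasFiniteProducts
  let N := ⨁ fun _ : Fin n => S₀.1.toModules
  let φT : N ⟶ F := biproduct.desc fun k => ι ≫ μ (bs k)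
  have hNq : Coh.IsQCoh N := Devissage.isQCoh_biproduct _ fun _ => (QC.Sub.isCoh_toModules S₀.2).1
  have hCq : Coh.IsQCoh (cokernel φT) := QC.isQCoh_cokernel hNq hF φT
  haveI hS'q : S'.1.toModules.IsQuasicoherent := (QC.Sub.isCoh_toModules S'.2).1
  let ψ := S'.1.ι ≫ cokernel.π φT
  have hkill : ∀ i (s : Γ(S'.1.toModules, D i)), ψ.app (D i) s = 0 := by
    intro i s
    show (cokernel.π φT).app (D i) (S'.1.ι.app (D i) s) = 0
    have hs := hT i s
    generalize S'.1.ι.app (D i) s = m at hs ⊢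
    induction hs using Submodule.span_induction with
    | mem v hv =>
      obtain ⟨b, hb, g, hg, rfl⟩ := Set.mem_iUnion₂.1 hv |>.imp fun b ⟨hb, hv⟩ => (⟨hb, hv⟩ : b ∈ T i ∧ _)
      obtain ⟨s₀, rfl⟩ := (S₀.1.range_ι_app (D i) g).mpr (hS₀ i g hg)
      have hb' : b ∈ T₀ := Finset.mem_biUnion.2 ⟨i, Finset.mem_univ i, hb⟩
      have hk : bs (T₀.equivFin ⟨b, hb'⟩) = b := by simp [bs]
      have hfac : (ι ≫ μ b) ≫ cokernel.π φT = 0 := by
        rw [← hk, ← biproduct.ι_desc (fun k => ι ≫ μ (bs k)) (T₀.equivFin ⟨b, hb'⟩), Category.assoc,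
          cokernel.condition, comp_zero]
      exact congr(($hfac).app (D i) s₀)
    | zero => rw [map_zero]
    | add x y _ _ hx hy => rw [map_add, hx, hy, add_zero]
    | smul r x _ hx => rw [Scheme.Modules.Hom.app_smul, hx, smul_zero]
  have hψ : ψ = 0 := by
    have hz : IsZero (Abelian.image ψ) := CohFinite.isZero_of_affine_cover _ (QC.isQCoh_image hS'q hCq ψ) D hD
      (fun y => hcov y trivial) fun i s => by
        obtain ⟨s', rfl⟩ := QC.app_surjective_of_epi (hD i) hS'q (QC.isQCoh_image hS'q hCq ψ)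
          (Abelian.factorThruImage ψ) s
        apply QC.app_injective_of_mono (Abelian.image.ι ψ) (D i)
        rw [map_zero]
        refine Eq.trans ?_ (hkill i s')
        exact congr(($(Abelian.image.fac ψ)).app (D i) s')
    rw [← Abelian.image.fac ψ, hz.eq_of_src (Abelian.image.ι ψ) 0, comp_zero]
  let k : S'.1.toModules ⟶ Abelian.image φT := kernel.lift _ S'.1.ι hψ
  -- lifting through the sum
  let fT := Abelian.factorThruImage φT
  let Sq : ShortComplex Y.Modules := ShortComplex.mk (kernel.ι fT) fT (kernel.condition _)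
  have hSq : Sq.ShortExact :=
    { exact := ShortComplex.exact_of_f_is_kernel _ (kernelIsKernel fT)
      mono_f := inferInstanceAs (Mono (kernel.ι fT))
      epi_g := inferInstanceAs (Epi fT) }
  haveI : Subsingleton (Coh.HH Y (kernel fT) (d + 1)) := subsingleton_hh_affine (Y ↘ Spec (CommRingCat.of A)) d hY
    (kernel fT) (QC.isQCoh_kernel hNq (QC.isQCoh_image hNq hF φT) fT) (d + 1) (Nat.lt_succ_self d)
  obtain ⟨v, hv⟩ : ∃ v, CohFinite.hhMap A fT d v = CohFinite.hhMap A k d w :=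
    (CohFinite.δH_eq_zero_iff (CohFinite.shortExact_toAb hSq) d _).1
      (Subsingleton.elim (α := Coh.HH Y (kernel fT) (d + 1)) _ 0)
  have hz : (show Coh.HH Y F d from e x) = CohFinite.hhMap A φT d v := by
    rw [← Abelian.image.fac φT, CohFinite.hhMap_comp, hv, ← CohFinite.hhMap_comp, kernel.lift_ι]
    exact hw.symm
  have hdesc : φT = ∑ k, biproduct.π (fun _ : Fin n => S₀.1.toModules) k ≫ (ι ≫ μ (bs k)) := biproduct.desc_eq
  rw [hdesc, hhMap_sum] at hz
  have hx : x = ∑ k, bs k • e.symm (CohFinite.hhMap A ι d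
      (CohFinite.hhMap A (biproduct.π (fun _ : Fin n => S₀.1.toModules) k) d v)) := by
    apply e.injective
    refine hz.trans ?_
    erw [map_sum]
    refine Finset.sum_congr rfl fun k _ => ?_
    rw [hμ, CohFinite.hhMap_comp, CohFinite.hhMap_comp]
    erw [AddEquiv.apply_symm_apply]
  rw [hx]
  exact Q.sum_mem fun k _ => Q.smul_mem _ (hQ _)

end Groth.Agent.FibVan

namespace Groth.Agent.FibVan

/-- Cohomology in the top degree of a finite type quasi-coherent module is finite, over any affine base. -/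
theorem finite_hh_top (B : Type u) [CommRing B] {X : Scheme.{u}} [X.Over (Spec (CommRingCat.of B))]
    [IsProper (X ↘ Spec (CommRingCat.of B))] (d : ℕ)
    (hd : ∀ b, topologicalKrullDim ↥((X ↘ Spec (CommRingCat.of B)).fiber b) ≤ d)
    (M : X.Modules) (hM : Coh.IsCoh M) : Module.Finite B (Coh.HH X M d) := by
  obtain ⟨X', f', j, hj, hf', hfp', hw, hdim⟩ := exists_closed_proper_all (X ↘ Spec (CommRingCat.of B)) _ hd
  letI : X'.Over (Spec (CommRingCat.of B)) := ⟨f'⟩
  haveI : M.IsQuasicoherent := hM.1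
  refine (CohFinite.finite_push_iff B j hw M (CohQC.directAcyclic_of_isAffineHom j M) d).2 ?_
  have hM' : Coh.IsCoh ((Coh.push j).obj M) := QC.isCoh_pushforward_of_isFinite (hM := hM.1) j hM.2
  obtain ⟨A, _, _, φ, Y, h, π, hh, hπ, sq, hY⟩ := exists_model_all B f' _ hdim
  letI : Algebra A B := φ.toAlgebra
  letI : Y.Over (Spec (CommRingCat.of A)) := ⟨h⟩
  haveI : IsProper (Y ↘ Spec (CommRingCat.of A)) := hh
  exact finite_hh_top_model A B d hY π sq _ hM'

/-- The top higher direct image of a finite type quasi-coherent module is of finite type. -/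
theorem isCoh_rpush_top {X Y : Scheme.{u}} (f : X ⟶ Y) [IsProper f] (d : ℕ)
    (hd : ∀ y : Y, topologicalKrullDim ↥(f.fiber y) ≤ d) [HasInjectiveResolutions X.Modules] (M : X.Modules)
    (hM : Coh.IsCoh M) : Coh.IsCoh ((Coh.Rpush f d).obj M) := by
  refine QC.isCoh_iff_finite_sections.mpr ⟨RPushQC.isQCoh_rpush f M hM.1 d, fun V => ?_⟩
  letI : (f ⁻¹ᵁ V.1).toScheme.Over (Spec (CommRingCat.of Γ(Y, V.1))) := ⟨(f ∣_ V.1) ≫ V.2.isoSpec.hom⟩
  haveI : IsProper ((f ⁻¹ᵁ V.1).toScheme ↘ Spec (CommRingCat.of Γ(Y, V.1))) :=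
    inferInstanceAs (IsProper ((f ∣_ V.1) ≫ V.2.isoSpec.hom))
  obtain ⟨e⟩ := W7Cech.nonempty_rpush_sections f M hM.1 d V.2
  haveI : Module.Finite Γ(Y, V.1) (Coh.HH (f ⁻¹ᵁ V.1).toScheme (M.restrict (f ⁻¹ᵁ V.1).ι) d) := by
    refine finite_hh_top _ d (fun b => ?_) _ ⟨QC.isQCoh_restrict _ hM.1, QC.isFT_restrict _ hM.2⟩
    have hW : IsPullback (f ⁻¹ᵁ V.1).ι ((f ⁻¹ᵁ V.1).toScheme ↘ Spec (CommRingCat.of Γ(Y, V.1))) f V.2.fromSpec :=
      IsPullback.of_iso (isPullback_morphismRestrict f V.1).flip (Iso.refl _) (Iso.refl _) V.2.isoSpec (Iso.refl _)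
        ((Category.comp_id _).trans (Category.id_comp _).symm) ((Category.id_comp _).symm) (by simp) (by simp)
    rw [DimField.dim_fiber_eq_of_isPullback hW b]
    exact hd _
  exact Module.Finite.equiv e.symm

end Groth.Agent.FibVan
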