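import Groth.Agent.LimModel.FgSubalgebra
import Groth.Agent.LimProper.Main

/-!
Models of proper morphisms over Noetherian local rings.
-/

set_option autoImplicit false
set_option backward.isDefEq.respectTransparency false
universe u
open CategoryTheory CategoryTheory.Limits AlgebraicGeometry

namespace Groth.Agent.FibVan

open LimModel

variable (A : Type u) [CommRing A]

/-- A proper morphism of finite presentation to `Spec A` comes from a finitely generated subring. -/
theorem exists_model_proper {X : Scheme.{u}} (f : X ⟶ Spec (CommRingCat.of A)) [IsProper f]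
    [LocallyOfFinitePresentation f] :
    ∃ A₀ : Subalgebra ℤ A, A₀.FG ∧ ∃ (X₀ : Scheme.{u}) (f₀ : X₀ ⟶ Spec (CommRingCat.of ↥A₀)) (g : X ⟶ X₀),
      IsProper f₀ ∧ IsPullback g f f₀ (Spec.map (CommRingCat.ofHom (algebraMap (↥A₀) A))) := by
  haveI : IsCofiltered (FgSub A)ᵒᵖ := isCofiltered_op_of_isFiltered _
  haveI : ∀ i : (FgSub A)ᵒᵖ, CompactSpace ((fgDiagram A).obj i) := fun i => inferInstance
  haveI : ∀ i : (FgSub A)ᵒᵖ, QuasiSeparatedSpace ((fgDiagram A).obj i) := fun i => inferInstance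
  haveI : @LocallyOfFinitePresentation X (fgCone A).pt f := ‹LocallyOfFinitePresentation f›
  haveI : @QuasiCompact X (fgCone A).pt f := inferInstanceAs (QuasiCompact f)
  haveI : @QuasiSeparated X (fgCone A).pt f := inferInstanceAs (QuasiSeparated f)
  haveI : @IsProper X (fgCone A).pt f := ‹IsProper f›
  obtain ⟨i, Xi, fi, g, h1, h2, h3, h4⟩ := exists_model (fgDiagram A) (fgCone A) (fgIsLimit A) (a := (f : X ⟶ (fgCone A).pt))
  have hY : IsPullback ((fgCone A).π.app i) (𝟙 (fgCone A).pt) (𝟙 ((fgDiagram A).obj i)) ((fgCone A).π.app i) :=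
    IsPullback.id_vert _
  obtain ⟨j, hj⟩ := LimProper.exists_isProper (fgDiagram A) (fgCone A) (fgIsLimit A) fi (𝟙 _) hY h4
  have hT := LimDesc.isPullback_stage (fgDiagram A) (𝟙 ((fgDiagram A).obj i)) j
  have hiso : IsIso (LimDesc.toStage (fgDiagram A) (𝟙 ((fgDiagram A).obj i)) j) := hT.isIso_snd_of_isIso
  have hsq : IsPullback (LimDesc.proj (fgDiagram A) (fi ≫ 𝟙 _) (fgCone A) (LimDesc.isPullback_comp (fgDiagram A) (𝟙 _) (fgCone A) hY fi h4) j)
      (f ≫ 𝟙 (fgCone A).pt) (LimDesc.toStage (fgDiagram A) (fi ≫ 𝟙 _) j) ((fgCone A).π.app j.left) :=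
    LimDesc.isPullback_proj _ _ _ _ _
  refine ⟨j.left.unop.1, j.left.unop.2, LimDesc.stage (fgDiagram A) (fi ≫ 𝟙 _) j, LimDesc.toStage (fgDiagram A) (fi ≫ 𝟙 _) j,
    LimDesc.proj (fgDiagram A) (fi ≫ 𝟙 _) (fgCone A) (LimDesc.isPullback_comp (fgDiagram A) (𝟙 _) (fgCone A) hY fi h4) j,
    ?_, ?_⟩
  · rw [← LimDesc.stageMap_toStage]
    exact MorphismProperty.RespectsIso.postcomp @IsProper (LimDesc.toStage (fgDiagram A) (𝟙 ((fgDiagram A).obj i)) j) _ hj
  · exact hsq.of_iso (Iso.refl _) (Iso.refl _) (Iso.refl _) (Iso.refl _) (by simp)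
      ((Category.comp_id _).trans (Category.comp_id f) |>.trans (Category.id_comp _).symm) (by simp)
      ((Category.comp_id _).trans (Category.id_comp _).symm)

/-- A proper morphism of finite presentation to the spectrum of a local ring comes from a Noetherian
local ring through a local homomorphism. -/
theorem exists_model_local [IsLocalRing A] {X : Scheme.{u}} (f : X ⟶ Spec (CommRingCat.of A)) [IsProper f]
    [LocallyOfFinitePresentation f] :
    ∃ (B : Type u) (_ : CommRing B) (_ : IsNoetherianRing B) (_ : IsLocalRing B)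
      (φ : B →+* A) (Y : Scheme.{u}) (h : Y ⟶ Spec (CommRingCat.of B)) (π : X ⟶ Y),
      IsProper h ∧ IsAffineHom π ∧ IsPullback π f h (Spec.map (CommRingCat.ofHom φ)) ∧
      Spec.map (CommRingCat.ofHom φ) (IsLocalRing.closedPoint A) = IsLocalRing.closedPoint B := by
  obtain ⟨A₀, hA₀, X₀, f₀, g, hf₀, hsq⟩ := exists_model_proper A f
  haveI : IsNoetherianRing ↥A₀ := isNoetherianRing_of_fg hA₀
  let q : Ideal ↥A₀ := (IsLocalRing.maximalIdeal A).comap (algebraMap ↥A₀ A)
  haveI : q.IsPrime := Ideal.IsPrime.comap _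
  let B := Localization.AtPrime q
  haveI : IsNoetherianRing B := IsLocalization.isNoetherianRing q.primeCompl B inferInstance
  have hu : ∀ s : q.primeCompl, IsUnit (algebraMap ↥A₀ A s) := fun s =>
    IsLocalRing.notMem_maximalIdeal.mp s.2
  let φ : B →+* A := IsLocalization.lift hu
  have hφ : φ.comp (algebraMap ↥A₀ B) = algebraMap ↥A₀ A := IsLocalization.lift_comp hu
  have hcp : Spec.map (CommRingCat.ofHom φ) (IsLocalRing.closedPoint A) = IsLocalRing.closedPoint B := by
    refine PrimeSpectrum.ext ?_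
    change (IsLocalRing.maximalIdeal A).comap φ = IsLocalRing.maximalIdeal B
    rw [← IsLocalization.map_comap q.primeCompl B ((IsLocalRing.maximalIdeal A).comap φ), Ideal.under, Ideal.comap_comap, hφ]
    exact Localization.AtPrime.map_eq_maximalIdeal
  have hcomp : Spec.map (CommRingCat.ofHom φ) ≫ Spec.map (CommRingCat.ofHom (algebraMap ↥A₀ B)) =
      Spec.map (CommRingCat.ofHom (algebraMap (↥A₀) A)) := by
    rw [← Spec.map_comp, ← CommRingCat.ofHom_comp, hφ]
  let h := pullback.snd f₀ (Spec.map (CommRingCat.ofHom (algebraMap ↥A₀ B)))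
  let π : X ⟶ pullback f₀ (Spec.map (CommRingCat.ofHom (algebraMap ↥A₀ B))) :=
    pullback.lift g (f ≫ Spec.map (CommRingCat.ofHom φ)) (by rw [hsq.w, Category.assoc, hcomp])
  have hπ : IsPullback π f h (Spec.map (CommRingCat.ofHom φ)) := by
    refine IsPullback.of_right ?_ (pullback.lift_snd _ _ _) (IsPullback.of_hasPullback _ _)
    rw [pullback.lift_fst, hcomp]
    exact hsq
  exact ⟨B, inferInstance, inferInstance, inferInstance, φ, _, h, π,
    MorphismProperty.pullback_snd (P := @IsProper) _ _ hf₀,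
    MorphismProperty.of_isPullback (P := @IsAffineHom) hπ.flip inferInstance, hπ, hcp⟩

end Groth.Agent.FibVan
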