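import Groth.Agent.FibVan.Noeth
import Groth.Agent.FibVan.Model
import Groth.Agent.AbsApprox.ProperLim
import Groth.Agent.DimField.Limit
import Groth.Agent.W7FTH.Basic
import Groth.Agent.CohQC.Push
import Groth.Agent.QC.Localisation

/-!
Quasi-coherent cohomology of a proper scheme over a local ring vanishes above the dimension of the
closed fibre.
-/

set_option autoImplicit false
set_option backward.isDefEq.respectTransparency false
set_option linter.style.haveILetI false
set_option maxHeartbeats 1000000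

universe u

open CategoryTheory CategoryTheory.Limits AlgebraicGeometry TopologicalSpace Opposite

noncomputable section

namespace Groth.Agent.FibVan

/-- Cohomology can be computed after pushing forward along an affine morphism. -/
theorem subsingleton_hh_push {X Y : Scheme.{u}} (π : X ⟶ Y) [IsAffineHom π] (M : X.Modules)
    [M.IsQuasicoherent] (p : ℕ) (h : Subsingleton (Coh.HH Y ((Coh.push π).obj M) p)) :
    Subsingleton (Coh.HH X M p) := by
  obtain ⟨e⟩ := CohQC.hu_push_affine π M ⊤ p
  have e' : CohSite.HU (Coh.toAb M) p (⊤ : X.Opens) ≃+ CohSite.HU (Coh.toAb ((Coh.push π).obj M)) p (⊤ : Y.Opens) := e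
  exact ((SiteCoh.huTerminalEquiv (Opens.grothendieckTopology X) isTerminalTop (Coh.toAb M) p).trans
    (e'.trans (SiteCoh.huTerminalEquiv (Opens.grothendieckTopology Y) isTerminalTop
      (Coh.toAb ((Coh.push π).obj M)) p).symm)).toEquiv.subsingleton

/-- The Noetherian case for quasi-coherent modules. -/
theorem subsingleton_hh_qcoh {A : Type u} [CommRing A] [IsNoetherianRing A] [IsLocalRing A] {X : Scheme.{u}}
    [X.Over (Spec (CommRingCat.of A))] [IsProper (X ↘ Spec (CommRingCat.of A))] (d : ℕ)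
    (hd : topologicalKrullDim ↥((X ↘ Spec (CommRingCat.of A)).fiber (IsLocalRing.closedPoint A)) ≤ d)
    (M : X.Modules) [M.IsQuasicoherent] (p : ℕ) (hp : d < p) : Subsingleton (Coh.HH X M p) := by
  haveI : CompactSpace X := QuasiCompact.compactSpace_of_compactSpace (X ↘ Spec (CommRingCat.of A))
  haveI : QuasiSeparatedSpace X := quasiSeparatedSpace_of_quasiSeparated (X ↘ Spec (CommRingCat.of A))
  exact W7FTH.subsingleton_hh (F := M) p fun S => subsingleton_hh_coh d hd _ (QC.Sub.isCoh_toModules S.2) p hp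

/-- A proper scheme over a local ring is a closed subscheme of a proper scheme of finite presentation
with closed fibre of the same dimension. -/
theorem exists_closed_proper {B : Type u} [CommRing B] [IsLocalRing B] {X : Scheme.{u}}
    (f : X ⟶ Spec (CommRingCat.of B)) [IsProper f] :
    ∃ (X' : Scheme.{u}) (f' : X' ⟶ Spec (CommRingCat.of B)) (j : X ⟶ X'), IsClosedImmersion j ∧ IsProper f' ∧
      LocallyOfFinitePresentation f' ∧ j ≫ f' = f ∧
      topologicalKrullDim ↥(f'.fiber (IsLocalRing.closedPoint B)) ≤ topologicalKrullDim ↥(f.fiber (IsLocalRing.closedPoint B)) := by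
  haveI : CompactSpace X := QuasiCompact.compactSpace_of_compactSpace f
  haveI : QuasiSeparatedSpace X := quasiSeparatedSpace_of_quasiSeparated f
  obtain ⟨T, t, Ω, g, ht, htc, hts, hΩ, hg, hgt⟩ := AbsApprox.exists_closedImmersion_opens f
  haveI : QuasiSeparatedSpace T := quasiSeparatedSpace_of_quasiSeparated t
  haveI : CompactSpace Ω.toScheme := isCompact_iff_compactSpace.mp hΩ
  haveI : QuasiSeparatedSpace Ω.toScheme := Ω.ι.isOpenEmbedding.quasiSeparatedSpace
  let F := Ω.ι ≫ t
  haveI : QuasiCompact F := quasiCompact_of_compactSpace _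
  haveI : QuasiSeparated F := inferInstance
  haveI : LocallyOfFinitePresentation F := inferInstance
  obtain ⟨L₁, hL₁⟩ := AbsApprox.exists_isProper_closedDiagram f F g hgt
  let b := IsLocalRing.closedPoint B
  haveI : IsNoetherian (F.fiber b) := by
    haveI : LocallyOfFiniteType (F.fiberToSpecResidueField b) := MorphismProperty.pullback_snd _ _ inferInstance
    haveI : IsLocallyNoetherian (F.fiber b) := LocallyOfFiniteType.isLocallyNoetherian (F.fiberToSpecResidueField b)
    haveI : CompactSpace (F.fiber b) := QuasiCompact.compactSpace_of_compactSpace (F.fiberToSpecResidueField b)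
    exact {}
  haveI : NoetherianSpace ↥(F.fiber b) := inferInstance
  let C : {L : LimClosed.FTBelow g.ker // L₁.unop ≤ L} → Closeds ↥(F.fiber b) := fun L =>
    ⟨F.fiberι b ⁻¹' (L.1.1.support : Set Ω.toScheme), L.1.1.support.isClosed.preimage (F.fiberι b).continuous⟩
  obtain ⟨-, ⟨L, rfl⟩, hmin⟩ := wellFounded_lt.has_min (Set.range C) ⟨_, ⟨⟨L₁.unop, le_rfl⟩, rfl⟩⟩
  have hsupp : ∀ y : Ω.toScheme, F y = b → y ∈ (L.1.1.support : Set Ω.toScheme) → y ∈ Set.range g := by
    intro y hy hyL
    rw [← AbsApprox.range_ι_inter g]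
    refine Set.mem_iInter.2 fun K => ?_
    obtain ⟨M, hM, hM'⟩ := exists_ge_ge K L.1
    have hsub : C ⟨M, L.2.trans hM'⟩ ≤ C L :=
      fun z hz => Scheme.IdealSheafData.support_antitone (show L.1.1 ≤ M.1 from hM') hz
    have heq : C ⟨M, L.2.trans hM'⟩ = C L :=
      hsub.eq_of_not_lt (hmin _ ⟨_, rfl⟩)
    obtain ⟨z, rfl⟩ : y ∈ Set.range (F.fiberι b) := by rw [Scheme.Hom.range_fiberι]; exact hy
    refine Scheme.IdealSheafData.support_antitone hM ?_
    exact (SetLike.ext_iff.mp heq z).mpr hyL
  let D := AbsApprox.closedDiagram F g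
  let ι := ((LimClosed.diagram g.ker).obj (op L.1)).hom
  let j := ((AbsApprox.closedCone f F g hgt).π.app (op L.1)).left
  haveI hj : IsClosedImmersion j := AbsApprox.isClosedImmersion_closedCone f F g hgt (op L.1)
  let F' := (D.obj (op L.1)).hom
  have hjι : j ≫ ι = g := Over.w ((LimClosed.cone g.ker g rfl).π.app (op L.1))
  have hw : j ≫ F' = f := Over.w ((AbsApprox.closedCone f F g hgt).π.app (op L.1))
  refine ⟨_, F', j, hj, hL₁ (op L.1) (homOfLE L.2).op, AbsApprox.lfp_closedDiagram F g _, hw, ?_⟩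
  have hmaps : ∀ x ∈ f ⁻¹' {b}, j x ∈ F' ⁻¹' {b} := fun x hx => (congr($hw x)).trans hx
  let r : f ⁻¹' {b} → F' ⁻¹' {b} := fun x => ⟨j x.1, hmaps x.1 x.2⟩
  have hr : IsHomeomorph r := by
    refine isHomeomorph_iff_isEmbedding_surjective.mpr ⟨?_, ?_⟩
    · exact (j.isClosedEmbedding.isEmbedding.comp Topology.IsEmbedding.subtypeVal).codRestrict _ _
    · rintro ⟨z, hz⟩
      have hιz : ι z ∈ (L.1.1.support : Set Ω.toScheme) := (Scheme.IdealSheafData.range_subschemeι L.1.1).le ⟨z, rfl⟩
      obtain ⟨x, hx⟩ := hsupp (ι z) hz hιz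
      have hjx : j x = z := ι.isClosedEmbedding.injective ((congr($hjι x)).trans hx)
      refine ⟨⟨x, ?_⟩, Subtype.ext hjx⟩
      show f x = b
      exact ((congr($hw x)).symm).trans ((congrArg F' hjx).trans hz)
  rw [IsHomeomorph.topologicalKrullDim_eq _ (F'.fiberHomeo b).isHomeomorph,
    IsHomeomorph.topologicalKrullDim_eq _ (f.fiberHomeo b).isHomeomorph]
  exact (IsHomeomorph.topologicalKrullDim_eq _ hr).symm.le

/-- Vanishing above the dimension of the closed fibre, over any local ring. -/
theorem subsingleton_hh {B : Type u} [CommRing B] [IsLocalRing B] {X : Scheme.{u}}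
    [X.Over (Spec (CommRingCat.of B))] [IsProper (X ↘ Spec (CommRingCat.of B))] (d : ℕ)
    (hd : topologicalKrullDim ↥((X ↘ Spec (CommRingCat.of B)).fiber (IsLocalRing.closedPoint B)) ≤ d)
    (M : X.Modules) [M.IsQuasicoherent] (p : ℕ) (hp : d < p) : Subsingleton (Coh.HH X M p) := by
  obtain ⟨X', f', j, hj, hf', hfp', -, hdim⟩ := exists_closed_proper (X ↘ Spec (CommRingCat.of B))
  refine subsingleton_hh_push j M p ?_
  haveI : ((Coh.push j).obj M).IsQuasicoherent := QC.isQCoh_pushforward j
  obtain ⟨A, _, _, _, φ, Y, h, π, hh, hπ, hsq, hcp⟩ := exists_model_local B f'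
  refine subsingleton_hh_push π _ p ?_
  haveI : ((Coh.push π).obj ((Coh.push j).obj M)).IsQuasicoherent := QC.isQCoh_pushforward π
  letI : Y.Over (Spec (CommRingCat.of A)) := ⟨h⟩
  haveI : IsProper (Y ↘ Spec (CommRingCat.of A)) := hh
  refine subsingleton_hh_qcoh (A := A) d ?_ _ p hp
  show topologicalKrullDim ↥(h.fiber (IsLocalRing.closedPoint A)) ≤ d
  rw [← hcp, ← DimField.dim_fiber_eq_of_isPullback hsq (IsLocalRing.closedPoint B)]
  exact hdim.trans hd

end Groth.Agent.FibVan
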