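import Groth.Agent.FibVan.Main
import Groth.Agent.W7Rees.Stalk
import Groth.Agent.CohQC.RpushModules
import Groth.Agent.RPushQC.Acyclic
import Groth.Agent.QC.Pullback

/-!
Stalks of higher direct images vanish above the dimension of the fibre.
-/

set_option autoImplicit false
set_option backward.isDefEq.respectTransparency false
set_option linter.style.haveILetI false
set_option maxHeartbeats 1000000

universe u

open CategoryTheory CategoryTheory.Limits AlgebraicGeometry TopologicalSpace Opposite

noncomputable section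

namespace Groth.Agent.FibVan

theorem isZero_stalk_rpushAb {X Y : Scheme.{u}} (f : X ⟶ Y) [IsProper f] (y : Y) (d : ℕ)
    (hd : topologicalKrullDim ↥(f.fiber y) ≤ d) (M : X.Modules) [hM : Coh.IsQCoh M] (i : ℕ) (hi : d < i) :
    IsZero (TopCat.Presheaf.stalk ((Coh.RpushAb f i).obj (Coh.toAb M)).obj y) := by
  haveI := RPushQC.hasInjectiveResolutions X
  let σ := Y.fromSpecStalk y
  let X₁ := pullback f σ
  letI : X₁.Over (Spec (CommRingCat.of (Y.presheaf.stalk y))) := ⟨pullback.snd f σ⟩
  have hsq : IsPullback (pullback.fst f σ) (X₁ ↘ Spec (CommRingCat.of (Y.presheaf.stalk y))) f σ :=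
    IsPullback.of_hasPullback f σ
  haveI : IsProper (X₁ ↘ Spec (CommRingCat.of (Y.presheaf.stalk y))) :=
    MorphismProperty.of_isPullback (P := @IsProper) hsq inferInstance
  obtain ⟨e⟩ := W7Rees.nonempty_stalk_hh f M hM y i X₁ (pullback.fst f σ) hsq
  haveI : ((Scheme.Modules.pullback (pullback.fst f σ)).obj M).IsQuasicoherent :=
    QC.isQCoh_pullback _ hM
  haveI := subsingleton_hh (B := Y.presheaf.stalk y) (X := X₁) d (by
    refine le_of_eq_of_le ?_ hd
    rw [DimField.dim_fiber_eq_of_isPullback hsq]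
    exact congrArg (fun z => topologicalKrullDim ↥(f.fiber z)) Scheme.fromSpecStalk_closedPoint)
    ((Scheme.Modules.pullback (pullback.fst f σ)).obj M) i hi
  haveI : Subsingleton (((Coh.Rpush f i).obj M).presheaf.stalk y) := e.toEquiv.subsingleton
  obtain ⟨ε⟩ := CohQC.toAb_rpush_iso f M i
  refine IsZero.of_iso (AddCommGrpCat.isZero_of_subsingleton (((Coh.Rpush f i).obj M).presheaf.stalk y)) ?_
  exact ((TopCat.Presheaf.stalkFunctor AddCommGrpCat.{u} y).mapIso
    ((sheafToPresheaf _ _).mapIso ε)).symm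

theorem isZero_rpushAb {X Y : Scheme.{u}} (f : X ⟶ Y) [IsProper f] (d : ℕ)
    (hd : ∀ y : Y, topologicalKrullDim ↥(f.fiber y) ≤ d) (M : X.Modules) [Coh.IsQCoh M] (i : ℕ) (hi : d < i) :
    IsZero ((Coh.RpushAb f i).obj (Coh.toAb M)) :=
  FreeJ.isZero_of_stalks fun y => AddCommGrpCat.subsingleton_of_isZero (isZero_stalk_rpushAb f y d (hd y) M i hi)

end Groth.Agent.FibVan
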