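import Groth.Agent.W7Rees.Main
import Groth.Agent.W7Exist.Completion
import Groth.Agent.W7Hull.LiftMono
import Groth.Agent.SuppZero.Basic

/-!
Coherent cohomology of a proper scheme over a Noetherian local ring vanishes above the dimension of
the closed fibre.
-/

set_option autoImplicit false
set_option backward.isDefEq.respectTransparency false
set_option backward.isDefEq.respectTransparency.types false
set_option linter.style.haveILetI false
set_option maxHeartbeats 1000000

universe u

open CategoryTheory CategoryTheory.Limits AlgebraicGeometry TopologicalSpace Opposite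

noncomputable section

namespace Groth.Agent.FibVan

/-- Cohomology of a sheaf of modules supported on a closed Noetherian subset of dimension `≤ d`. -/
theorem subsingleton_hh_of_supported {X : Scheme.{u}} [NoetherianSpace X] {Z : Set X} (hZ : IsClosed Z)
    (d : ℕ) (hdim : topologicalKrullDim Z ≤ d) (M : X.Modules)
    (hM : ∀ x ∉ Z, x ∉ CohB1.support M) (p : ℕ) (hp : d < p) : Subsingleton (Coh.HH X M p) := by
  let U : X.Opens := ⟨Zᶜ, hZ.isOpen_compl⟩
  refine Groth.Agent.FreeJ.subsingleton_H_of_support (X := X.toPresheafedSpace.carrier) (G := Coh.toAb M) U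
    (fun x hx => not_not.1 (hM x hx)) p fun N => ?_
  refine Groth.Agent.S0458.result (X := TopCat.of ((U : Set X)ᶜ : Set X)) d ?_ N p hp
  refine le_trans ?_ hdim
  exact (IsHomeomorph.topologicalKrullDim_eq _ (Homeomorph.setCongr (compl_compl Z)).isHomeomorph).le

variable {A : Type u} [CommRing A] {X : Scheme.{u}} [X.Over (Spec (CommRingCat.of A))]

/-- The image of `a` is a unit in the local ring of a point whose image avoids `a`. -/
theorem isUnit_toStalk (a : A) (x : X) (h : a ∉ ((X ↘ Spec (CommRingCat.of A)) x).asIdeal) :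
    IsUnit (W7Hull.toStalk A x a) := by
  let f := X ↘ Spec (CommRingCat.of A)
  have h1 : f x ∈ (Spec (CommRingCat.of A)).basicOpen ((Scheme.ΓSpecIso (CommRingCat.of A)).inv a) := by
    rw [basicOpen_eq_of_affine]
    exact h
  have h2 : x ∈ f ⁻¹ᵁ (Spec (CommRingCat.of A)).basicOpen ((Scheme.ΓSpecIso (CommRingCat.of A)).inv a) := h1
  rw [Scheme.preimage_basicOpen_top] at h2
  exact (X.mem_basicOpen _ x (by trivial)).mp h2

/-- `M / I^n M` is supported over `V(I)`. -/
theorem notMem_support_modPow (I : Ideal A) (n : ℕ) (M : X.Modules) (x : X) (a : A) (ha : a ∈ I)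
    (hx : a ∉ ((X ↘ Spec (CommRingCat.of A)) x).asIdeal) :
    x ∉ CohB1.support (Formal.modPow I n M) := by
  have hsub : Subsingleton ((Formal.modPow I n M).presheaf.stalk x) := by
    refine subsingleton_of_forall_eq 0 fun z => ?_
    have h0 := W7Hull.st_smulMod A (Formal.modPow I n M) (a ^ n) x z
    rw [W7Exist.π_smulMod I n M (a ^ n) (Ideal.pow_mem_pow ha n), map_pow] at h0
    refine ((isUnit_toStalk a x hx).pow n).smul_eq_zero.mp (h0.symm.trans ?_)
    exact congr($((TopCat.Presheaf.stalkFunctor AddCommGrpCat.{u} x).map_zero _ _) z)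
  exact fun h => h hsub

variable [IsNoetherianRing A] [IsLocalRing A] [IsProper (X ↘ Spec (CommRingCat.of A))]

theorem subsingleton_hh_coh (d : ℕ)
    (hd : topologicalKrullDim ↥((X ↘ Spec (CommRingCat.of A)).fiber (IsLocalRing.closedPoint A)) ≤ d)
    (M : X.Modules) (hM : Coh.IsCoh M) (p : ℕ) (hp : d < p) : Subsingleton (Coh.HH X M p) := by
  let f := X ↘ Spec (CommRingCat.of A)
  let I := IsLocalRing.maximalIdeal A
  haveI : IsLocallyNoetherian X := LocallyOfFiniteType.isLocallyNoetherian f
  haveI : CompactSpace X := QuasiCompact.compactSpace_of_compactSpace f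
  haveI : IsNoetherian X := {}
  have hZ : IsClosed (f ⁻¹' {IsLocalRing.closedPoint A}) :=
    (IsLocalRing.isClosed_singleton_closedPoint A).preimage f.continuous
  have hdim : topologicalKrullDim (f ⁻¹' {IsLocalRing.closedPoint A} : Set X) ≤ d :=
    ((IsHomeomorph.topologicalKrullDim_eq _ (f.fiberHomeo (IsLocalRing.closedPoint A)).isHomeomorph)).symm.le.trans hd
  haveI hterm : ∀ n, Subsingleton (Formal.HHmodPow I M p n) := fun n => by
    refine subsingleton_hh_of_supported hZ d hdim _ (fun x hx => ?_) p hp
    obtain ⟨a, ha, ha'⟩ : ∃ a ∈ I, a ∉ (f x).asIdeal := by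
      by_contra h
      push_neg at h
      exact hx (PrimeSpectrum.ext ((IsLocalRing.le_maximalIdeal (f x).isPrime.ne_top).antisymm h))
    exact notMem_support_modPow I (n + 1) M x a ha ha'
  obtain ⟨Φ, hΦ, -⟩ := W7Rees.formal_functions I hM p
  haveI : Subsingleton (Formal.HHlim I M p) := ⟨fun a b => Subtype.ext (funext fun n => Subsingleton.elim _ _)⟩
  haveI : Subsingleton (AdicCompletion I (Coh.HH X M p)) := hΦ.1.subsingleton
  haveI := CohFinite.finite_proper A X M hM p
  have htop : (⊤ : Submodule A (Coh.HH X M p)) ≤ I • ⊤ := fun x _ => by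
    have h0 : AdicCompletion.of I (Coh.HH X M p) x = 0 := Subsingleton.elim _ _
    have h1 := congrArg (AdicCompletion.eval I (Coh.HH X M p) 1) h0
    rw [AdicCompletion.eval_of, map_zero] at h1
    rw [show I = I ^ 1 from (pow_one I).symm]
    exact (Submodule.Quotient.mk_eq_zero _).mp h1
  have hbot := Submodule.eq_bot_of_le_smul_of_le_jacobson_bot I (⊤ : Submodule A (Coh.HH X M p))
    Module.Finite.fg_top htop (IsLocalRing.maximalIdeal_le_jacobson _)
  exact subsingleton_of_forall_eq 0 fun x => (Submodule.mem_bot A).mp (hbot ▸ (trivial : x ∈ (⊤ : Submodule A _)))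

end Groth.Agent.FibVan
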